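import Groth.Agent.CurvesA.ArtinSchreier
import Groth.Agent.Sga4h.KerSect
import Groth.Agent.Etcore.OpenClosed

/-!
# The Artin–Schreier sequence with a closed subscheme

For a closed immersion `i : Z ⟶ X` with open complement `j : U ⟶ X`, on a scheme with `p = 0`:
`gaRes i : G_a ⟶ i_* G_a`, `K i := ker (gaRes i)`, and
`0 → j_! ℤ/p → K i → K i → 0` is exact (`shortExact`).
-/

set_option autoImplicit false
universe u
open CategoryTheory CategoryTheory.Limits AlgebraicGeometry Opposite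

namespace Groth.Agent.Etbc.H212.ASClosed

open Groth.Agent.CurvesA Groth.Agent.CurvesA.ArtinSchreier Groth.Agent.Sga4h.KerSect

variable {X Y : Scheme.{u}}

/-- The projection `U ×_Y X → U`. -/
noncomputable abbrev bcFst (f : X ⟶ Y) (U : Y.Etale) : ((EtCoh.bc f).obj U).left ⟶ U.left :=
  pullback.fst U.hom f

theorem bcFst_nat (f : X ⟶ Y) {U V : Y.Etale} (r : V ⟶ U) :
    ((EtCoh.bc f).map r).left ≫ bcFst f U = bcFst f V ≫ r.left :=
  pullback.lift_fst _ _ _

/-- The restriction `G_a ⟶ f_* G_a`. -/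
noncomputable def gaRes (f : X ⟶ Y) : EtCoh.Ga Y ⟶ (EtCoh.push f).obj (EtCoh.Ga X) where
  hom :=
    { app := fun U => EtCoh.ΓAdd.map (bcFst f U.unop).op
      naturality := fun U V r => by
        have h := congrArg (fun t => EtCoh.ΓAdd.map t.op) (bcFst_nat f r.unop)
        have h2 : EtCoh.ΓAdd.map r.unop.left.op ≫ EtCoh.ΓAdd.map (bcFst f V.unop).op =
          EtCoh.ΓAdd.map (bcFst f U.unop).op ≫
            EtCoh.ΓAdd.map ((EtCoh.bc f).map r.unop).left.op := by
          rw [← Functor.map_comp, ← Functor.map_comp, ← op_comp, ← op_comp]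
          exact h.symm
        exact h2 }

theorem gaRes_app (f : X ⟶ Y) (U : Y.Etale) (s : Γ(U.left, ⊤)) :
    (gaRes f).hom.app (op U) (ULift.up s : ULift.{u + 1} Γ(U.left, ⊤)) =
      (ULift.up ((bcFst f U).appTop s) : ULift.{u + 1} Γ(((EtCoh.bc f).obj U).left, ⊤)) := rfl

theorem cast_eq_zero (f : X ⟶ Y) {p : ℕ} (h : (p : Γ(Y, ⊤)) = 0) : (p : Γ(X, ⊤)) = 0 := by
  have h1 := congrArg f.appTop.hom h
  rwa [map_natCast, map_zero] at h1

variable (f : X ⟶ Y) (p : ℕ) [hp : Fact p.Prime] (h : (p : Γ(Y, ⊤)) = 0)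

theorem asMap_gaRes : asMap Y p h ≫ gaRes f =
    gaRes f ≫ (EtCoh.push f).map (asMap X p (cast_eq_zero f h)) := by
  apply Sheaf.hom_ext
  ext U s
  let t : Γ(U.unop.left, ⊤) := (show ULift.{u + 1} Γ(U.unop.left, ⊤) from s).down
  apply ULift.ext
  change (bcFst f U.unop).appTop (t ^ p - t) = ((bcFst f U.unop).appTop t) ^ p - (bcFst f U.unop).appTop t
  rw [map_sub, map_pow]

/-- The "ideal sheaf" `ker (G_a ⟶ f_* G_a)`. -/
noncomputable def K : EtCoh.Ab Y := kernel (gaRes f)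

/-- The inclusion of the ideal sheaf. -/
noncomputable def Kι : K f ⟶ EtCoh.Ga Y := kernel.ι (gaRes f)

/-- `F - 1` on the ideal sheaf. -/
noncomputable def asK : K f ⟶ K f :=
  kernel.map (gaRes f) (gaRes f) (asMap Y p h) _ (asMap_gaRes f p h).symm

theorem asK_ι : asK f p h ≫ Kι f = Kι f ≫ asMap Y p h := kernel.lift_ι _ _ _

/-- The map `ℤ/p ⟶ G_a ⟶ f_* G_a`. -/
noncomputable def ψ : EtCoh.const Y (ZMod p) ⟶ (EtCoh.push f).obj (EtCoh.Ga X) :=
  constMap Y p h ≫ gaRes f

/-- The kernel of `ψ` maps to the ideal sheaf. -/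
noncomputable def toK : kernel (ψ f p h) ⟶ K f :=
  kernel.map (ψ f p h) (gaRes f) (constMap Y p h) (𝟙 _) (by rw [Category.comp_id]; rfl)

theorem toK_ι : toK f p h ≫ Kι f = kernel.ι (ψ f p h) ≫ constMap Y p h := kernel.lift_ι _ _ _

instance : Mono (Kι f) := inferInstanceAs (Mono (kernel.ι (gaRes f)))

theorem toK_asK : toK f p h ≫ asK f p h = 0 := by
  rw [← cancel_mono (Kι f), Category.assoc, asK_ι, ← Category.assoc, toK_ι, Category.assoc,
    constMap_comp_asMap, comp_zero, zero_comp]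

end Groth.Agent.Etbc.H212.ASClosed
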