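import Groth.Agent.Etbc.H212.ASClosed

/-!
# The Artin–Schreier sequence with a closed subscheme: exactness

`shortExact`: for a closed immersion `i : Z ⟶ X` on a scheme with `p = 0`,
`0 → ker (ℤ/p → i_* G_a) → K i → K i → 0` is exact, and `kernelIso`: its first term is
`j_! ℤ/p` for `j` the open complement of `i`.
-/

set_option autoImplicit false
universe u
open CategoryTheory CategoryTheory.Limits AlgebraicGeometry Opposite

namespace Groth.Agent.Etbc.H212.ASClosed

open Groth.Agent.CurvesA Groth.Agent.CurvesA.ArtinSchreier Groth.Agent.Sga4h.KerSect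

/-- A global function which vanishes on an open `N` pulls back to zero along a morphism with image
in `N`. -/
theorem appTop_eq_zero_of_res {A B : Scheme.{u}} (m : A ⟶ B) (N : B.Opens) (s : Γ(B, ⊤))
    (hs : B.presheaf.map (homOfLE (le_top (a := N))).op s = 0) (hm : ∀ a, m a ∈ N) :
    m.appTop s = 0 := by
  have h : m ⁻¹ᵁ N = ⊤ := by
    ext a
    simpa using hm a
  have h1 := congr($(m.naturality (homOfLE (le_top (a := N))).op) s)
  rw [CommRingCat.comp_apply, CommRingCat.comp_apply, hs, map_zero] at h1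
  have h2 : Function.Injective (A.presheaf.map
      ((TopologicalSpace.Opens.map m.base).map (homOfLE (le_top (a := N)))).op) := by
    have : IsIso (A.presheaf.map
      ((TopologicalSpace.Opens.map m.base).map (homOfLE (le_top (a := N)))).op) := by
      have h3 : IsIso ((TopologicalSpace.Opens.map m.base).map (homOfLE (le_top (a := N)))) := by
        refine ⟨⟨homOfLE (le_of_eq ?_), Subsingleton.elim _ _, Subsingleton.elim _ _⟩⟩
        exact h.symm
      infer_instance
    exact (ConcreteCategory.bijective_of_isIso _).1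
  apply h2
  exact h1.symm.trans (map_zero _).symm

theorem isClosedImmersion_fst {A B C : Scheme.{u}} (f : A ⟶ C) (g : B ⟶ C) [IsClosedImmersion g] :
    IsClosedImmersion (pullback.fst f g) := inferInstance

theorem isClosedImmersion_bcFst {Z X : Scheme.{u}} (i : Z ⟶ X) [hi : IsClosedImmersion i]
    (V : X.Etale) : IsClosedImmersion (bcFst i V) :=
  isClosedImmersion_fst (A := V.left) (B := Z) (C := X) V.hom i

variable {Z X : Scheme.{u}} (i : Z ⟶ X) (p : ℕ) [hp : Fact p.Prime] (h : (p : Γ(X, ⊤)) = 0)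

theorem Kι_injective (U : X.Etale) : Function.Injective ((Kι i).hom.app (op U)) :=
  kernel_ι_injective (gaRes i) U

theorem gaRes_Kι (U : X.Etale) (s : EtCoh.sect (K i) U) :
    (gaRes i).hom.app (op U) ((Kι i).hom.app (op U) s) = 0 :=
  kernel_ι_app_comp (gaRes i) U s

theorem exists_K (U : X.Etale) (a : Γ(U.left, ⊤)) (ha : (bcFst i U).appTop a = 0) :
    ∃ t : EtCoh.sect (K i) U, (Kι i).hom.app (op U) t = (ULift.up a : ULift.{u + 1} Γ(U.left, ⊤)) :=
  exists_kernel_section (gaRes i) U (ULift.up a : ULift.{u + 1} Γ(U.left, ⊤))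
    (ULift.ext _ _ ha)

/-- The function underlying a section of `K i`. -/
noncomputable def val {U : X.Etale} (s : EtCoh.sect (K i) U) : Γ(U.left, ⊤) :=
  (show ULift.{u + 1} Γ(U.left, ⊤) from (Kι i).hom.app (op U) s).down

theorem val_injective {U : X.Etale} {s t : EtCoh.sect (K i) U} (hst : val i s = val i t) : s = t := by
  apply Kι_injective i U
  exact ULift.down_injective hst

theorem val_res {U : X.Etale} (s : EtCoh.sect (K i) U) : (bcFst i U).appTop (val i s) = 0 :=
  congrArg ULift.down (gaRes_Kι i U s)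

theorem exists_val (U : X.Etale) (a : Γ(U.left, ⊤)) (ha : (bcFst i U).appTop a = 0) :
    ∃ t : EtCoh.sect (K i) U, val i t = a := by
  obtain ⟨t, ht⟩ := exists_K i U a ha
  exact ⟨t, congrArg ULift.down ht⟩

theorem val_map {U V : X.Etale} (g : V ⟶ U) (s : EtCoh.sect (K i) U) :
    val i ((K i).obj.map g.op s) = g.left.appTop (val i s) :=
  congrArg ULift.down (congrArg (fun φ => φ s) ((Kι i).hom.naturality g.op))

theorem val_asK {U : X.Etale} (s : EtCoh.sect (K i) U) :
    val i ((asK i p h).hom.app (op U) s) = (val i s) ^ p - val i s := by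
  have h1 := congrArg (fun φ => φ.hom.app (op U) s) (asK_ι i p h)
  exact congrArg ULift.down h1

include hp in
/-- local approximation of solutions of `t ^ p = t` on a closed subscheme. -/
theorem exists_open [IsClosedImmersion i] (V : X.Etale) (t : Γ(V.left, ⊤))
    (ht : ((bcFst i V).appTop t) ^ p - (bcFst i V).appTop t = 0) (v : V.left) :
    ∃ (N : V.left.Opens) (_ : v ∈ N) (c : ZMod p),
      ((EtCoh.bc i).obj V).left.presheaf.map
        (homOfLE (le_top (a := (bcFst i V) ⁻¹ᵁ N))).op ((bcFst i V).appTop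
          (t - ASAlg.zmodHom _ p (cast_eq_zero_of_etale X p h V) c)) = 0 := by
  by_cases hz : v ∈ Set.range (bcFst i V)
  · obtain ⟨z, rfl⟩ := hz
    have hZ := cast_eq_zero i h
    obtain ⟨W, hzW, c, hW⟩ := exists_local_const Z p hZ ((EtCoh.bc i).obj V) _ ht z
    have hcl := isClosedImmersion_bcFst i V
    obtain ⟨N, hN, hNW⟩ := hcl.isClosedEmbedding.isInducing.isOpen_iff.1 W.isOpen
    have hNW' : (bcFst i V) ⁻¹ᵁ ⟨N, hN⟩ = W := by
      ext a
      exact Set.ext_iff.1 hNW a
    refine ⟨⟨N, hN⟩, ?_, c, ?_⟩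
    · change (bcFst i V) z ∈ N
      have : z ∈ (bcFst i V) ⁻¹' N := by
        rw [hNW]
        exact hzW
      exact this
    · rw [hNW', map_sub, map_sub, hW]
      rw [ASAlg.map_zmodHom p (cast_eq_zero_of_etale X p h V)
        (cast_eq_zero_of_etale Z p hZ ((EtCoh.bc i).obj V)) (bcFst i V).appTop.hom c, sub_self]
  · have hcl := isClosedImmersion_bcFst i V
    refine ⟨⟨(Set.range (bcFst i V))ᶜ, hcl.isClosedEmbedding.isClosed_range.isOpen_compl⟩, hz, 0, ?_⟩
    have h1 : (bcFst i V) ⁻¹ᵁ (⟨(Set.range (bcFst i V))ᶜ,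
      hcl.isClosedEmbedding.isClosed_range.isOpen_compl⟩ : V.left.Opens) = ⊥ := by
      ext a
      simp
    have h2 : Subsingleton Γ(((EtCoh.bc i).obj V).left, (bcFst i V) ⁻¹ᵁ
      (⟨(Set.range (bcFst i V))ᶜ, hcl.isClosedEmbedding.isClosed_range.isOpen_compl⟩ : V.left.Opens)) := by
      rw [h1]
      infer_instance
    exact Subsingleton.elim _ _

instance epi_asK [IsClosedImmersion i] : Epi (asK i p h) := by
  rw [Groth.Agent.Dix.EtaleSieve.epi_iff]
  intro U s x
  obtain ⟨V, g, ⟨v, hv⟩, t, ht⟩ := exists_local_root X p h U (val i s) x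
  have hnat := bcFst_nat i g
  have h0 : ((bcFst i V).appTop t) ^ p - (bcFst i V).appTop t = 0 := by
    rw [← map_pow, ← map_sub, ht]
    have h1 : (bcFst i V).appTop (g.left.appTop (val i s)) =
        ((EtCoh.bc i).map g).left.appTop ((bcFst i U).appTop (val i s)) := by
      rw [← CommRingCat.comp_apply, ← CommRingCat.comp_apply, ← Scheme.Hom.comp_appTop,
        ← Scheme.Hom.comp_appTop, hnat]
    rw [h1, val_res, map_zero]
  obtain ⟨N, hvN, c, hN⟩ := exists_open i p h V t h0 v
  let V' : X.Etale := Scheme.Etale.mk (N.ι ≫ V.hom)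
  let g' : V' ⟶ V := MorphismProperty.Over.homMk N.ι rfl
  let t₀ : Γ(V.left, ⊤) := t - ASAlg.zmodHom _ p (cast_eq_zero_of_etale X p h V) c
  let t' : Γ(V'.left, ⊤) := g'.left.appTop t₀
  have hnat' := bcFst_nat i g'
  have h2 : (bcFst i V').appTop t' = 0 := by
    have h1 : (bcFst i V').appTop (g'.left.appTop t₀) =
        ((EtCoh.bc i).map g').left.appTop ((bcFst i V).appTop t₀) := by
      rw [← CommRingCat.comp_apply, ← CommRingCat.comp_apply, ← Scheme.Hom.comp_appTop,
        ← Scheme.Hom.comp_appTop, hnat']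
    refine h1.trans (appTop_eq_zero_of_res _ _ _ hN ?_)
    intro a
    change (bcFst i V) (((EtCoh.bc i).map g').left a) ∈ N
    rw [← Scheme.Hom.comp_apply, hnat', Scheme.Hom.comp_apply]
    exact ((bcFst i V') a).2
  obtain ⟨r, hr⟩ := exists_val i V' t' h2
  refine ⟨V', g' ≫ g, ⟨⟨v, hvN⟩, ?_⟩, r, ?_⟩
  · rw [← hv]
    rfl
  · apply val_injective i
    rw [val_asK, hr, val_map]
    change (g'.left.appTop t₀) ^ p - g'.left.appTop t₀ = (g'.left ≫ g.left).appTop (val i s)
    rw [Scheme.Hom.comp_appTop, CommRingCat.comp_apply, ← ht, ← map_pow, ← map_sub]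
    congr 1
    have h3 := map_sub (ASAlg.asHom Γ(V.left, ⊤) p (cast_eq_zero_of_etale X p h V)) t
      (ASAlg.zmodHom _ p (cast_eq_zero_of_etale X p h V) c)
    rw [ASAlg.asHom_apply, ASAlg.asHom_apply, ASAlg.asHom_apply, ASAlg.zmodHom_pow, sub_zero] at h3
    exact h3

end Groth.Agent.Etbc.H212.ASClosed
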