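import Groth.Agent.Etbc.H212.ASClosed2

/-!
# The Artin–Schreier sequence with a closed subscheme: exactness

`shortExact`: for a closed immersion `i : Z ⟶ X` on a scheme with `p = 0`,
`0 → ker (ℤ/p → i_* G_a) → K i → K i → 0` is exact, and `nonempty_kernelIso`: its first term is
`j_! ℤ/p` for `j` the open complement of `i`.
-/

set_option autoImplicit false
universe u
open CategoryTheory CategoryTheory.Limits AlgebraicGeometry Opposite

namespace Groth.Agent.Etbc.H212.ASClosed

open Groth.Agent.CurvesA Groth.Agent.CurvesA.ArtinSchreier Groth.Agent.Sga4h.KerSect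

section

variable {Z X : Scheme.{u}} (i : Z ⟶ X) (p : ℕ) [hp : Fact p.Prime] (h : (p : Γ(X, ⊤)) = 0)

instance mono_toK : Mono (toK i p h) := by
  have h1 : Mono (toK i p h ≫ Kι i) := by
    rw [toK_ι]
    infer_instance
  exact mono_of_mono (toK i p h) (Kι i)

theorem exact_toK : (ShortComplex.mk (toK i p h) (asK i p h) (toK_asK i p h)).Exact := by
  apply ShortComplex.exact_of_f_is_kernel
  refine KernelFork.IsLimit.ofι' _ _ (fun {A} k hk => ?_)
  have hK := (ArtinSchreier.shortExact X p h).fIsKernel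
  have h1 : (k ≫ Kι i) ≫ asMap X p h = 0 := by
    rw [Category.assoc, ← asK_ι, ← Category.assoc]
    exact (congrArg (fun t => t ≫ Kι i) hk).trans zero_comp
  let t : A ⟶ EtCoh.const X (ZMod p) := hK.lift (KernelFork.ofι (k ≫ Kι i) h1)
  have ht : t ≫ constMap X p h = k ≫ Kι i := hK.fac (KernelFork.ofι (k ≫ Kι i) h1) WalkingParallelPair.zero
  have h2 : t ≫ ψ i p h = 0 := by
    unfold ψ
    rw [← Category.assoc, ht, Category.assoc]
    have h3 : Kι i ≫ gaRes i = 0 := kernel.condition _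
    rw [h3, comp_zero]
  refine ⟨kernel.lift _ t h2, ?_⟩
  rw [← cancel_mono (Kι i)]
  change (kernel.lift (ψ i p h) t h2 ≫ toK i p h) ≫ Kι i = k ≫ Kι i
  rw [Category.assoc, toK_ι, ← Category.assoc, kernel.lift_ι, ht]

theorem shortExact [IsClosedImmersion i] :
    (ShortComplex.mk (toK i p h) (asK i p h) (toK_asK i p h)).ShortExact where
  exact := exact_toK i p h
  mono_f := mono_toK i p h
  epi_g := epi_asK i p h

/-- Sections of `ℤ/p` killed by `ψ` restrict to zero on `Z`. -/
theorem unit_eq_zero (U : X.Etale) (s : EtCoh.sect (EtCoh.const X (ZMod p)) U)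
    (hs : (ψ i p h).hom.app (op U) s = 0) :
    ((EtCoh.pullPushAdj i).unit.app (EtCoh.const X (ZMod p))).hom.app (op U) s = 0 := by
  let F := EtCoh.const X (ZMod p)
  let un := (EtCoh.pullPushAdj i).unit.app F
  let y : EtCoh.sect ((EtCoh.pull i).obj F) ((EtCoh.bc i).obj U) := un.hom.app (op U) s
  change y = 0
  refine Groth.Agent.Etbase.EtSite.sect_eq_zero _ _ y (fun z => ?_)
  obtain ⟨V, g, ⟨v, hv⟩, m, hm⟩ := const_locally (ZMod p) U s (bcFst i U z)
  obtain ⟨z', hz', -⟩ := Scheme.Pullback.exists_preimage_pullback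
    (f := (pullback.fst U.hom i : ((EtCoh.bc i).obj U).left ⟶ U.left)) (g := g.left) z v hv.symm
  let z'' : ((EtCoh.bc i).obj V).left := (EtCoh.isPullback_bc_map i g).isoPullback.inv z'
  have hz'' : ((EtCoh.bc i).map g).left z'' = z := by
    rw [← hz']
    exact congr($((EtCoh.isPullback_bc_map i g).isoPullback_inv_fst) z')
  refine ⟨(EtCoh.bc i).obj V, (EtCoh.bc i).map g, z'', hz'', ?_⟩
  have h1 : ((EtCoh.pull i).obj F).obj.map ((EtCoh.bc i).map g).op y =
      un.hom.app (op V) (F.obj.map g.op s) :=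
    (congrArg (fun φ => φ s) (un.hom.naturality g.op)).symm
  have h2 : (ψ i p h).hom.app (op V) (F.obj.map g.op s) = 0 := by
    have h3 := congrArg (fun φ => φ s) ((ψ i p h).hom.naturality g.op)
    refine h3.trans ?_
    change ((EtCoh.push i).obj (EtCoh.Ga Z)).obj.map g.op ((ψ i p h).hom.app (op U) s) = 0
    rw [hs, map_zero]
  rw [← hm] at h2
  have h4 : (ψ i p h).hom.app (op V) ((toSheafify X.smallEtaleTopology ((Functor.const X.Etaleᵒᵖ).obj
        (AddCommGrpCat.of (ULift.{u + 1} (ZMod p))))).app (op V) m) =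
      (ULift.up ((bcFst i V).appTop (ASAlg.zmodHom Γ(V.left, ⊤) p
        (cast_eq_zero_of_etale X p h V) m.down)) : ULift.{u + 1} Γ(((EtCoh.bc i).obj V).left, ⊤)) :=
    congrArg ((gaRes i).hom.app (op V)) (toSheafify_constMap X p h V m)
  rw [h4] at h2
  have h5 : (bcFst i V).appTop (ASAlg.zmodHom Γ(V.left, ⊤) p
        (cast_eq_zero_of_etale X p h V) m.down) = 0 := congrArg ULift.down h2
  have hne : Nontrivial Γ(((EtCoh.bc i).obj V).left, ⊤) := by
    have : Nonempty (⊤ : ((EtCoh.bc i).obj V).left.Opens) := ⟨⟨z'', trivial⟩⟩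
    infer_instance
  have h6 : m.down = 0 := by
    apply ASAlg.zmodHom_injective p (cast_eq_zero_of_etale Z p (cast_eq_zero i h) ((EtCoh.bc i).obj V))
    rw [map_zero, ← h5]
    exact (ASAlg.map_zmodHom p _ _ (bcFst i V).appTop.hom _).symm
  have h7 : m = 0 := ULift.ext _ _ h6
  have h8 : F.obj.map g.op s = 0 := by
    rw [← hm, h7]
    exact map_zero _
  rw [h1, h8]
  exact map_zero _

theorem unit_comp : (EtCoh.pullPushAdj i).unit.app (EtCoh.const X (ZMod p)) ≫
    (EtCoh.push i).map (((EtCoh.pullPushAdj i).homEquiv _ _).symm (ψ i p h)) = ψ i p h := by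
  have h1 := ((EtCoh.pullPushAdj i).homEquiv _ _).apply_symm_apply (ψ i p h)
  rwa [Adjunction.homEquiv_unit] at h1

/-- `ker (ℤ/p → i_* G_a) = ker (ℤ/p → i_* i⁻¹ ℤ/p)`. -/
noncomputable def kernelIso :
    kernel (ψ i p h) ≅ kernel ((EtCoh.pullPushAdj i).unit.app (EtCoh.const X (ZMod p))) where
  hom := kernel.lift _ (kernel.ι _) (by
    apply Sheaf.hom_ext
    ext U s
    exact unit_eq_zero i p h U.unop _ (kernel_ι_app_comp (ψ i p h) U.unop s))
  inv := kernel.lift _ (kernel.ι _) (by
    rw [← unit_comp, ← Category.assoc, kernel.condition, zero_comp])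
  hom_inv_id := by
    rw [← cancel_mono (kernel.ι (ψ i p h)), Category.assoc, kernel.lift_ι, kernel.lift_ι,
      Category.id_comp]
  inv_hom_id := by
    rw [← cancel_mono (kernel.ι ((EtCoh.pullPushAdj i).unit.app (EtCoh.const X (ZMod p)))),
      Category.assoc, kernel.lift_ι, kernel.lift_ι, Category.id_comp]

end

theorem nonempty_kernelIso {Z U X : Scheme.{u}} (i : Z ⟶ X) [IsClosedImmersion i] (j : U ⟶ X)
    [IsOpenImmersion j] (hd : IsCompl (Set.range i) (Set.range j)) (p : ℕ) [hp : Fact p.Prime]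
    (h : (p : Γ(X, ⊤)) = 0) :
    Nonempty (kernel (ψ i p h) ≅
      (EtShriek.extZero j).obj ((EtShriek.restrAlong j).obj (EtCoh.const X (ZMod p)))) := by
  have hS := Groth.Agent.Etcore.OpenClosed.shortExact i j hd (EtCoh.const X (ZMod p))
  exact ⟨kernelIso i p h ≪≫ (kernelIsKernel _).conePointUniqueUpToIso hS.fIsKernel⟩

end Groth.Agent.Etbc.H212.ASClosed
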