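import Groth.Prelude.Def_Dix
import Groth.Agent.EtpbcA.CdExact
import Groth.Agent.Hensel.GeomBar

/-!
# Formal properties of `cd_ℓ(X) ≤ d` (`Dix.CohDimLEAt`)

* `isPrimaryTorsion_pull`, `isPrimaryTorsion_of_iso`, `cohDimLEAt_of_iso`, `cohDimLEAt_mono`,
  `cohDimLEAt_of_cohDimLE`.
-/

set_option autoImplicit false
universe u

open CategoryTheory CategoryTheory.Limits AlgebraicGeometry Opposite

namespace Groth.Agent.Etbc.H212.CdAt

open Groth.Agent.EtpbcA

variable {X Y : Scheme.{u}}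

theorem isPrimaryTorsion_pull {p : ℕ} (f : X ⟶ Y) {F : EtCoh.Ab Y} (hF : Dix.IsPrimaryTorsion p F) :
    Dix.IsPrimaryTorsion p ((EtCoh.pull f).obj F) :=
  Groth.Agent.Hensel.GeomBar.LocPTors.pull f hF

theorem isPrimaryTorsion_of_iso {p : ℕ} {F G : EtCoh.Ab X} (e : F ≅ G)
    (h : Dix.IsPrimaryTorsion p F) : Dix.IsPrimaryTorsion p G := by
  intro U s x
  obtain ⟨V, g, hv, k, hk⟩ := h U (e.inv.hom.app (op U) s) x
  refine ⟨V, g, hv, k, ?_⟩
  have h1 : G.obj.map g.op s = e.hom.hom.app (op V) (F.obj.map g.op (e.inv.hom.app (op U) s)) := by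
    have h2 := ConcreteCategory.congr_hom (e.hom.hom.naturality g.op) (e.inv.hom.app (op U) s)
    have h3 : e.hom.hom.app (op U) (e.inv.hom.app (op U) s) = s := by
      have := ConcreteCategory.congr_hom (congrArg (fun t : G ⟶ G => t.hom.app (op U)) e.inv_hom_id) s
      exact this
    simp only [ConcreteCategory.comp_apply, h3] at h2
    exact h2.symm
  rw [h1, ← map_nsmul, hk, map_zero]

theorem isTorsion_of_isPrimaryTorsion {p : ℕ} (hp : 0 < p) {F : EtCoh.Ab X}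
    (hF : Dix.IsPrimaryTorsion p F) : EtCoh.IsTorsion F :=
  Groth.Agent.Hensel.GeomBar.LocPTors.isTorsion hp hF

theorem cohDimLEAt_mono {p a b : ℕ} (hab : a ≤ b) (h : Dix.CohDimLEAt X p a) :
    Dix.CohDimLEAt X p b := fun F hF q hq => h F hF q (by omega)

theorem cohDimLEAt_of_cohDimLE {p : ℕ} (hp : 0 < p) {d : ℕ} (h : EtCoh.CohDimLE X d) :
    Dix.CohDimLEAt X p d := fun F hF q hq => h F (isTorsion_of_isPrimaryTorsion hp hF) q hq

theorem cohDimLEAt_of_isEquivalence {p : ℕ} (f : X ⟶ Y) [(EtCoh.push f).IsEquivalence] (d : ℕ)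
    (h : Dix.CohDimLEAt X p d) : Dix.CohDimLEAt Y p d := fun F hF q hq =>
  (CdExact.H_pull_iff_of_isEquivalence f F q).1 (h _ (isPrimaryTorsion_pull f hF) q hq)

theorem cohDimLEAt_of_iso {p : ℕ} (e : X ≅ Y) (d : ℕ) (h : Dix.CohDimLEAt X p d) :
    Dix.CohDimLEAt Y p d :=
  have := CdExact.push_isEquivalence_of_isIso e.hom
  cohDimLEAt_of_isEquivalence e.hom d h

end Groth.Agent.Etbc.H212.CdAt
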