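import Groth.Agent.Etbc.H212.CdAt
import Groth.Agent.Etbc.H205.AlgExt
import Groth.Agent.EtpbcA.CdColim
import Groth.Agent.EtpbcA.RpushTors
import Groth.Agent.EtpbcA.CdEtLeray
import Groth.Agent.S0099
import Groth.Agent.S0646

/-!
# `cd_p` of a cofiltered limit of qcqs schemes with affine transition maps
-/

set_option autoImplicit false
universe u
open CategoryTheory CategoryTheory.Limits AlgebraicGeometry Opposite

namespace Groth.Agent.Etbc.H212.Lim

open Groth.Agent.EtpbcA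

theorem cohDimLEAt_limit {ι : Type u} [Preorder ι] [IsDirected ι (· ≤ ·)] [Nonempty ι]
    (Xs : ιᵒᵖ ⥤ Scheme.{u}) [∀ {a b : ιᵒᵖ} (h : a ⟶ b), IsAffineHom (Xs.map h)]
    [∀ a, CompactSpace (Xs.obj a)] [∀ a, QuasiSeparatedSpace (Xs.obj a)]
    (c : Cone Xs) (hc : IsLimit c) (p d : ℕ) (h : ∀ a, Dix.CohDimLEAt (Xs.obj a) p d) :
    Dix.CohDimLEAt c.pt p d := by
  intro F hF q hq
  have hcomp : CompactSpace c.pt := Scheme.compactSpace_of_isLimit Xs c hc
  have haff (a : ιᵒᵖ) : IsAffineHom (c.π.app a) := isAffineHom_π_app Xs c hc a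
  have hqs : QuasiSeparatedSpace c.pt := by
    obtain ⟨i⟩ := ‹Nonempty ι›
    exact quasiSeparatedSpace_of_quasiSeparated (c.π.app (op i))
  obtain ⟨hcol⟩ := CdColim.isColimit_phiCocone Xs c F hc
  have : PreservesColimitsOfShape (ιᵒᵖ)ᵒᵖ (EtCoh.HF c.pt q) :=
    Groth.Agent.S0099.result c.pt q (ιᵒᵖ)ᵒᵖ
  have : PreservesColimitsOfShape (ιᵒᵖ)ᵒᵖ (forget AddCommGrpCat.{u + 1}) := by
    have := Groth.Agent.Etbase.PointBasics.preservesFilteredColimitsOfSize_forget.{u}
    infer_instance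
  have hcol' := isColimitOfPreserves (forget AddCommGrpCat.{u + 1})
    (isColimitOfPreserves (EtCoh.HF c.pt q) hcol)
  have key (i : ι) (η : EtCoh.H c.pt (CdBc.Phi (c.π.app (op i)) F) q) : η = 0 := by
    have hpush : Dix.IsPrimaryTorsion p ((EtCoh.push (c.π.app (op i))).obj F) :=
      Groth.Agent.Etbc.H205.AlgExt.isPrimaryTorsion_push (c.π.app (op i)) F hF
    obtain ⟨j, hj, ξj, hξ⟩ := (Groth.Agent.S0646.result Xs (fun _ _ _ => inferInstance)
      inferInstance inferInstance c hc i ((EtCoh.push (c.π.app (op i))).obj F) q).1 η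
    have hsub := h (op j) _ (CdAt.isPrimaryTorsion_pull (Xs.map (homOfLE hj).op) hpush)
      q hq
    rw [← hξ, Subsingleton.elim ξj 0, map_zero]
  have hzero (ξ : EtCoh.H c.pt F q) : ξ = 0 := by
    obtain ⟨a, η, hη⟩ := Types.jointly_surjective_of_isColimit hcol' ξ
    have hη0 : η = (0 : EtCoh.H c.pt (CdBc.Phi (c.π.app a.unop) F) q) := key a.unop.unop η
    rw [← hη, hη0]
    exact map_zero ((EtCoh.HF c.pt q).map ((CdColim.phiCocone Xs c F).ι.app a)).hom
  exact ⟨fun ξ η => (hzero ξ).trans (hzero η).symm⟩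

end Groth.Agent.Etbc.H212.Lim
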