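import Groth.Agent.Etbc.H212.CdAt
import Groth.Agent.S0659
import Groth.Agent.S0015

/-!
# Mayer–Vietoris bounds for `cd_p`

* `cohDimLEAt_union`: `cd_p(U), cd_p(V), cd_p(U ∩ V) ≤ d` implies `cd_p(U ∪ V) ≤ d + 1`;
* `exists_bound`: on a qcqs scheme all of whose affine opens have finite `cd_p`, `cd_p` is finite.
-/

set_option autoImplicit false
universe u

open CategoryTheory CategoryTheory.Limits AlgebraicGeometry Opposite

namespace Groth.Agent.Etbc.H212.CdMV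

open Groth.Agent.EtpbcA Groth.Agent.Etbc.H212.CdAt

variable {X : Scheme.{u}}

theorem cohDimLEAt_top {p d : ℕ} (U V : X.Opens) (hUV : U ⊔ V = ⊤)
    (hU : Dix.CohDimLEAt (U : Scheme.{u}) p d) (hV : Dix.CohDimLEAt (V : Scheme.{u}) p d)
    (hW : Dix.CohDimLEAt ((U ⊓ V : X.Opens) : Scheme.{u}) p d) :
    Dix.CohDimLEAt X p (d + 1) := by
  intro F hF q hq
  obtain ⟨n, rfl⟩ : ∃ n, q = n + 1 := ⟨q - 1, by omega⟩
  have hpf : ∀ {A B : Scheme.{u}} (f : A ⟶ B), PreservesFiniteLimits (EtCoh.pull f) :=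
    fun f => Groth.Agent.S0101.result f
  have i1 := hpf U.ι
  have i2 := hpf V.ι
  have i3 := hpf (X.homOfLE (inf_le_left : U ⊓ V ≤ U))
  have i4 := hpf (X.homOfLE (inf_le_right : U ⊓ V ≤ V))
  obtain ⟨δ, -, h2, -, -⟩ := Groth.Agent.S0659.result X U V hUV F
  have s1 : Subsingleton (EtCoh.H (U : Scheme.{u}) ((EtCoh.pull U.ι).obj F) (n + 1)) :=
    hU _ (isPrimaryTorsion_pull U.ι hF) _ (by omega)
  have s2 : Subsingleton (EtCoh.H (V : Scheme.{u}) ((EtCoh.pull V.ι).obj F) (n + 1)) :=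
    hV _ (isPrimaryTorsion_pull V.ι hF) _ (by omega)
  have s3 : Subsingleton (EtCoh.H ((U ⊓ V : X.Opens) : Scheme.{u}) ((EtCoh.pull (U ⊓ V).ι).obj F) n) :=
    hW _ (isPrimaryTorsion_pull (U ⊓ V).ι hF) _ (by omega)
  refine subsingleton_of_forall_eq 0 fun x => ?_
  have hx : x ∈ (AddMonoidHom.prod (EtCore.Hpull U.ι F (n + 1)) (EtCore.Hpull V.ι F (n + 1))).ker := by
    rw [AddMonoidHom.mem_ker]
    exact Prod.ext (Subsingleton.elim _ _) (Subsingleton.elim _ _)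
  rw [h2 n] at hx
  obtain ⟨y, rfl⟩ := hx
  rw [Subsingleton.elim y 0, map_zero]

/-- Mayer–Vietoris for two opens of a scheme. -/
theorem cohDimLEAt_union {p d : ℕ} (U V : X.Opens)
    (hU : Dix.CohDimLEAt (U : Scheme.{u}) p d) (hV : Dix.CohDimLEAt (V : Scheme.{u}) p d)
    (hW : Dix.CohDimLEAt ((U ⊓ V : X.Opens) : Scheme.{u}) p d) :
    Dix.CohDimLEAt ((U ⊔ V : X.Opens) : Scheme.{u}) p (d + 1) := by
  let W : X.Opens := U ⊔ V
  let U' : (W : Scheme.{u}).Opens := W.ι ⁻¹ᵁ U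
  let V' : (W : Scheme.{u}).Opens := W.ι ⁻¹ᵁ V
  have e : ∀ A : X.Opens, A ≤ W → Nonempty ((A : Scheme.{u}) ≅ ((W.ι ⁻¹ᵁ A : (W : Scheme.{u}).Opens) : Scheme.{u})) := by
    intro A hA
    refine ⟨IsOpenImmersion.isoOfRangeEq A.ι ((W.ι ⁻¹ᵁ A).ι ≫ W.ι) ?_⟩
    rw [Scheme.Opens.range_ι, Scheme.Hom.comp_base, TopCat.coe_comp, Set.range_comp,
      Scheme.Opens.range_ι]
    change _ = W.ι '' (W.ι ⁻¹' (A : Set X))
    rw [Set.image_preimage_eq_inter_range, Scheme.Opens.range_ι]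
    exact (Set.inter_eq_left.2 hA).symm
  refine cohDimLEAt_top U' V' ?_ ?_ ?_ ?_
  · change W.ι ⁻¹ᵁ U ⊔ W.ι ⁻¹ᵁ V = ⊤
    rw [← Scheme.Hom.preimage_sup]
    exact Scheme.Opens.ι_preimage_self W
  · obtain ⟨i⟩ := e U le_sup_left
    exact cohDimLEAt_of_iso i d hU
  · obtain ⟨i⟩ := e V le_sup_right
    exact cohDimLEAt_of_iso i d hV
  · obtain ⟨i⟩ := e (U ⊓ V) (inf_le_left.trans le_sup_left)
    exact cohDimLEAt_of_iso i d hW

/-- Finiteness of `cd_p` on a qcqs scheme, from the case of affine opens. -/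
theorem exists_bound (X : Scheme.{u}) [CompactSpace X] [QuasiSeparatedSpace X] {p d : ℕ}
    (h : ∀ U : X.Opens, IsAffineOpen U → Dix.CohDimLEAt (U : Scheme.{u}) p d) :
    ∃ N, Dix.CohDimLEAt X p N := by
  have key := Groth.Agent.S0015.result X (fun U => ∃ N, Dix.CohDimLEAt (U : Scheme.{u}) p N)
    (fun U hU => ⟨d, h U hU⟩) (by
      rintro U V - - ⟨a, ha⟩ ⟨b, hb⟩ ⟨c, hc⟩
      refine ⟨a + b + c + 1, cohDimLEAt_union U V ?_ ?_ ?_⟩
      · exact cohDimLEAt_mono (by omega) ha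
      · exact cohDimLEAt_mono (by omega) hb
      · exact cohDimLEAt_mono (by omega) hc) ⊤ isCompact_univ
  obtain ⟨N, hN⟩ := key
  exact ⟨N, cohDimLEAt_of_iso X.topIso N hN⟩

end Groth.Agent.Etbc.H212.CdMV
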