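import Groth.Agent.Etbc.H212.KQC
import Groth.Agent.Etbase.GaZar
import Groth.Agent.Sga67.IdealTorsion
import Groth.Agent.PerfB.UnitMono
import Groth.Agent.PerfA.QCohSerre
import Groth.Agent.CohqA.AffPush

/-!
# Étale cohomology of the ideal sheaf `K i`

For a closed immersion `i : Z ⟶ X`, `I i := ker (O_X → i_* O_Z)` is a quasi-coherent module and
`H^n(X_et, K i) ≃ H^n(X, I i)`.
-/

set_option autoImplicit false
universe u
open CategoryTheory CategoryTheory.Limits AlgebraicGeometry Opposite TopologicalSpace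

namespace Groth.Agent.Etbc.H212.KZar

open Groth.Agent.Etbc.H212.ASClosed Groth.Agent.Etbc.H212.KQC
open Groth.Agent.Etbase.ZarEtCoh Groth.Agent.Etbase.ZarEtH Groth.Agent.Etbase.GaZar

variable {Z X : Scheme.{u}} (i : Z ⟶ X)

/-- The kernel of `O_X → i_* O_Z`. -/
noncomputable def I : X.Modules := kernel (Groth.Agent.PerfB.UnitMono.unitMap i)

/-- The inclusion of the ideal. -/
noncomputable def Iι : I i ⟶ Coh.structureModule X := kernel.ι _

theorem isQCoh_I [IsClosedImmersion i] : Coh.IsQCoh (I i) := by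
  have h1 : Coh.IsQCoh (Coh.structureModule X) := Groth.Agent.PerfA.QCohSerre.isQCoh_unit X
  have h2 : Coh.IsQCoh (Coh.structureModule Z) := Groth.Agent.PerfA.QCohSerre.isQCoh_unit Z
  exact Groth.Agent.PerfA.QCohSerre.isQCoh_kernel _ h1
    (Groth.Agent.CohqA.AffPush.isQCoh_push i _ h2)

/-- The sections of the ideal. -/
noncomputable def fnI (V : X.Opens) (s : Γ(I i, V)) : Γ(X, V) := (Iι i).app V s

theorem fnI_injective (V : X.Opens) : Function.Injective (fnI i V) := by
  have : Mono (Iι i) := inferInstanceAs (Mono (kernel.ι _))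
  exact Groth.Agent.Sga67.IdealTorsion.app_injective_of_mono (Iι i) V

theorem app_fnI (V : X.Opens) (s : Γ(I i, V)) : i.app V (fnI i V s) = 0 :=
  Groth.Agent.Sga67.IdealTorsion.app_kernel_ι (Groth.Agent.PerfB.UnitMono.unitMap i) V s

theorem exists_fnI (V : X.Opens) (a : Γ(X, V)) (ha : i.app V a = 0) : ∃ s, fnI i V s = a :=
  Groth.Agent.Sga67.IdealTorsion.exists_kernel_ι (Groth.Agent.PerfB.UnitMono.unitMap i) V a ha

theorem appLE_congr_hom {A B : Scheme.{u}} {h h' : A ⟶ B} (e : h = h') (V : B.Opens)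
    (e2 : (⊤ : A.Opens) ≤ h ⁻¹ᵁ V) (e3 : (⊤ : A.Opens) ≤ h' ⁻¹ᵁ V) (a : Γ(B, V)) :
    h.appLE V ⊤ e2 a = h'.appLE V ⊤ e3 a := by
  subst e
  rfl

theorem map_eq_comp {Y : TopCat.{u}} (F : (Opens Y)ᵒᵖ ⥤ CommRingCat.{u}) {A B D : (Opens Y)ᵒᵖ}
    (a : A ⟶ D) (b : A ⟶ B) (c : B ⟶ D) : F.map a = F.map b ≫ F.map c := by
  rw [← F.map_comp]
  exact congrArg F.map (Subsingleton.elim _ _)

theorem fnI_map {V W : X.Opens} (e : W ≤ V) (s : Γ(I i, V)) :
    fnI i W ((I i).presheaf.map (homOfLE e).op s) = X.presheaf.map (homOfLE e).op (fnI i V s) :=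
  ConcreteCategory.congr_hom (((Scheme.Modules.toPresheaf X).map (Iι i)).naturality
    (homOfLE e).op) s

/-- Vanishing of a function on `Z` in terms of `V ×_X Z`. -/
theorem res_eq_zero_iff (V : X.Opens) (a : Γ(X, V)) :
    (bcFst i ((EtZar.zarToEt X).obj V)).appTop (V.topIso.inv a) = 0 ↔ i.app V a = 0 := by
  let f : pullback V.ι i ⟶ V := pullback.fst V.ι i
  let g : pullback V.ι i ⟶ Z := pullback.snd V.ι i
  change f.appTop (V.topIso.inv a) = 0 ↔ _
  have hVι : (⊤ : (V : Scheme.{u}).Opens) ≤ V.ι ⁻¹ᵁ V := le_of_eq (Scheme.Opens.ι_preimage_self V).symm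
  have h1 : V.topIso.inv = V.ι.appLE V ⊤ hVι := by
    simp [Scheme.Opens.topIso_inv, Scheme.Hom.appLE]
    exact map_eq_comp X.presheaf _ _ _
  have hfg : f ≫ V.ι = g ≫ i := pullback.condition
  have e1 : (⊤ : (pullback V.ι i).Opens) ≤ f ⁻¹ᵁ ⊤ := le_rfl
  have e2 : (⊤ : (pullback V.ι i).Opens) ≤ (f ≫ V.ι) ⁻¹ᵁ V := fun x _ => hVι (x := f x) trivial
  have e3 : (⊤ : (pullback V.ι i).Opens) ≤ (g ≫ i) ⁻¹ᵁ V := by rw [← hfg]; exact e2
  have h2 : f.appTop (V.topIso.inv a) = (f ≫ V.ι).appLE V ⊤ e2 a := by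
    rw [h1, ← Scheme.Hom.appLE_comp_appLE f V.ι V ⊤ ⊤ hVι e1, CommRingCat.comp_apply]
    congr 1
    simp [Scheme.Hom.appLE]
  have h3 : (f ≫ V.ι).appLE V ⊤ e2 a = (g ≫ i).appLE V ⊤ e3 a :=
    appLE_congr_hom hfg V e2 e3 a
  have h4 : (g ≫ i).appLE V ⊤ e3 a = g.appLE (i ⁻¹ᵁ V) ⊤ e3 (i.app V a) := by
    rw [Scheme.Hom.comp_appLE, CommRingCat.comp_apply]
  have h5 : Function.Injective (g.appLE (i ⁻¹ᵁ V) ⊤ e3) := by
    have hr : i ⁻¹ᵁ V ≤ g.opensRange := by
      intro z hz
      have h6 : i z ∈ Set.range V.ι := by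
        rw [Scheme.Opens.range_ι]
        exact hz
      obtain ⟨v, hv⟩ := h6
      obtain ⟨w, -, hw⟩ := Scheme.Pullback.exists_preimage_pullback (f := V.ι) (g := i) v z hv
      exact ⟨w, hw⟩
    have h7 : IsIso (g.app (i ⁻¹ᵁ V)) := Scheme.Hom.isIso_app g _ hr
    have h8 : IsIso ((pullback V.ι i).presheaf.map (homOfLE e3).op) := by
      have h9 : IsIso (homOfLE e3) :=
        ⟨⟨homOfLE le_top, Subsingleton.elim _ _, Subsingleton.elim _ _⟩⟩
      infer_instance
    have h10 : IsIso (g.appLE (i ⁻¹ᵁ V) ⊤ e3) := by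
      unfold Scheme.Hom.appLE
      exact @IsIso.comp_isIso _ _ _ _ _ _ _ h7 h8
    exact (ConcreteCategory.bijective_of_isIso _).1
  rw [h2, h3, h4]
  constructor
  · intro h
    exact h5 (h.trans (map_zero _).symm)
  · intro h
    rw [h, map_zero]

/-- The map `Γ(I, V) → Γ(V_et, K)`. -/
noncomputable def θKV (V : X.Opens) :
    ULift.{u + 1} Γ(I i, V) →+ EtCoh.sect (K i) ((EtZar.zarToEt X).obj V) where
  toFun x := (eK i ((EtZar.zarToEt X).obj V)).symm
    ⟨V.topIso.inv (fnI i V x.down), (res_eq_zero_iff i V _).2 (app_fnI i V x.down)⟩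
  map_zero' := by
    apply (eK i _).injective
    rw [AddEquiv.apply_symm_apply, map_zero]
    apply Subtype.ext
    have h : fnI i V 0 = 0 := map_zero ((Iι i).app V).hom
    change V.topIso.inv (fnI i V 0) = 0
    rw [h, map_zero]
  map_add' x y := by
    apply (eK i _).injective
    rw [map_add, AddEquiv.apply_symm_apply, AddEquiv.apply_symm_apply, AddEquiv.apply_symm_apply]
    apply Subtype.ext
    have h : fnI i V (x.down + y.down) = fnI i V x.down + fnI i V y.down :=
      map_add ((Iι i).app V).hom _ _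
    change V.topIso.inv (fnI i V (x.down + y.down)) =
      V.topIso.inv (fnI i V x.down) + V.topIso.inv (fnI i V y.down)
    rw [h, map_add]

theorem val_θKV (V : X.Opens) (x : ULift.{u + 1} Γ(I i, V)) :
    val i (θKV i V x) = V.topIso.inv (fnI i V x.down) := by
  rw [← eK_val]
  exact congrArg Subtype.val ((eK i _).apply_symm_apply _)

theorem θKV_bijective (V : X.Opens) : Function.Bijective (θKV i V) := by
  constructor
  · intro x y h
    have h1 := congrArg (val i) h
    rw [val_θKV, val_θKV] at h1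
    exact ULift.down_injective (fnI_injective i V
      ((ConcreteCategory.bijective_of_isIso V.topIso.inv).1 h1))
  · intro s
    obtain ⟨a, ha⟩ := (ConcreteCategory.bijective_of_isIso V.topIso.inv).2 (val i s)
    have h1 : i.app V a = 0 := by
      rw [← res_eq_zero_iff, ha]
      exact val_res i s
    obtain ⟨t, ht⟩ := exists_fnI i V a h1
    refine ⟨ULift.up t, ?_⟩
    apply val_injective i
    rw [val_θKV, ← ha, ht]

/-- The comparison `ul I → ε_* K`. -/
noncomputable def θK : (ulZ X).obj (Coh.toAb (I i)) ⟶ (EtZar.resZar X).obj (K i) where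
  hom :=
    { app := fun V => AddCommGrpCat.ofHom (θKV i V.unop)
      naturality := by
        intro V W e
        apply AddCommGrpCat.hom_ext
        apply AddMonoidHom.ext
        intro x
        apply val_injective i
        refine (val_θKV i W.unop _).trans ?_
        have h1 := val_map i ((EtZar.zarToEt X).map e.unop) (θKV i V.unop x)
        rw [val_θKV] at h1
        refine Eq.trans ?_ h1.symm
        have h2 := topIso_inv_naturality X e.unop.le (fnI i V.unop x.down)
        refine Eq.trans ?_ h2.symm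
        exact congrArg (Scheme.Opens.topIso (X := X) W.unop).inv (fnI_map i e.unop.le x.down) }

instance isIso_θK : IsIso (θK i) := by
  have h : IsIso ((sheafToPresheaf (Opens.grothendieckTopology X) AddCommGrpCat.{u + 1}).map (θK i)) := by
    rw [NatTrans.isIso_iff_isIso_app]
    intro V
    rw [ConcreteCategory.isIso_iff_bijective]
    exact θKV_bijective i V.unop
  exact isIso_of_reflects_iso (θK i) (sheafToPresheaf (Opens.grothendieckTopology X) AddCommGrpCat.{u + 1})

/-- Vanishing of the étale cohomology of `K i` from the Zariski cohomology of `I i`. -/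
theorem subsingleton_H_K [IsClosedImmersion i] (n : ℕ) (h : Subsingleton (Coh.HH X (I i) n)) :
    Subsingleton (EtCoh.H X (K i) n) := by
  have hb := compH_bijective (θK i) (etAcyc_K i) n
  exact (Equiv.ofBijective _ hb).symm.subsingleton

end Groth.Agent.Etbc.H212.KZar
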