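import Groth.Agent.Etbc.H212.CdAt
import Groth.Agent.S0151
import Groth.Agent.S0208
import Mathlib.RingTheory.LittleWedderburn
import Mathlib.Algebra.Central.Defs
import Mathlib.Algebra.Field.ULift

/-!
# `cd` of schemes of finite type over a finite field is finite
-/

set_option autoImplicit false
universe u
open CategoryTheory CategoryTheory.Limits AlgebraicGeometry Opposite

namespace Groth.Agent.Etbc.H212.FinField

/-- Finite division rings which are central over a field are equal to it. -/
theorem finrank_eq_one (K D : Type u) [Field K] [DivisionRing D] [Algebra K D]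
    [Algebra.IsCentral K D] [Finite K] [FiniteDimensional K D] : Module.finrank K D = 1 := by
  have : Finite D := Module.finite_of_finite K
  rw [← Subalgebra.bot_eq_top_iff_finrank_eq_one]
  have h1 : ∀ x y : D, x * y = y * x := by
    intro x y
    exact (littleWedderburn D).mul_comm x y
  rw [eq_top_iff]
  intro x _
  exact Algebra.IsCentral.out (Subalgebra.mem_center_iff.2 fun y => h1 y x)

/-- `cd (Spec K) ≤ 1` for a finite field `K`. -/
theorem cohDimLE_finField (K : Type u) [Field K] [Finite K] :
    EtCoh.CohDimLE (Spec (CommRingCat.of K)) 1 := by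
  intro F hF q hq
  refine Groth.Agent.S0208.result K ?_ F hF q hq
  intro K' _ _ _ D _ _ _ _
  have : Finite K' := Module.finite_of_finite K
  exact finrank_eq_one K' D

/-- `cd_p` of a scheme of finite type over a finite field is finite. -/
theorem exists_cohDimLEAt (K : Type u) [Field K] [Finite K] (X : Scheme.{u})
    (a : X ⟶ Spec (CommRingCat.of K)) [LocallyOfFiniteType a] [QuasiCompact a] (p : ℕ)
    (hp : 0 < p) : ∃ N, Dix.CohDimLEAt X p N := by
  obtain ⟨N, hN⟩ := Groth.Agent.S0151.result K X a 1 (cohDimLE_finField K)
  exact ⟨N, CdAt.cohDimLEAt_of_cohDimLE hp hN⟩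

end Groth.Agent.Etbc.H212.FinField
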