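import Groth.Agent.Etbc.H212.KerBC
import Groth.Agent.Etbc.H212.ASClosed2
import Groth.Agent.Etbase.EtQC

/-!
# The étale ideal sheaf `K i` is quasi-coherent
-/

set_option autoImplicit false
universe u
open CategoryTheory CategoryTheory.Limits AlgebraicGeometry Opposite

namespace Groth.Agent.Etbc.H212.KQC

open Groth.Agent.Etbc.H212.ASClosed

variable {Z X : Scheme.{u}} (i : Z ⟶ X)

/-- The map of `eK`. -/
noncomputable def eKHom (U : X.Etale) :
    EtCoh.sect (K i) U →+ RingHom.ker (bcFst i U).appTop.hom where
  toFun s := ⟨val i s, val_res i s⟩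
  map_zero' := Subtype.ext (congrArg ULift.down (map_zero ((Kι i).hom.app (op U)).hom))
  map_add' s t := Subtype.ext (congrArg ULift.down (map_add ((Kι i).hom.app (op U)).hom s t))

theorem eKHom_bijective (U : X.Etale) : Function.Bijective (eKHom i U) :=
  ⟨fun _ _ h => val_injective i (congrArg Subtype.val h), fun a => by
      obtain ⟨t, ht⟩ := exists_val i U a.1 a.2
      exact ⟨t, Subtype.ext ht⟩⟩

/-- Sections of `K i` are the functions which vanish on `Z`. -/
noncomputable def eK (U : X.Etale) : EtCoh.sect (K i) U ≃+ RingHom.ker (bcFst i U).appTop.hom :=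
  AddEquiv.ofBijective (eKHom i U) (eKHom_bijective i U)

theorem eK_val (U : X.Etale) (s : EtCoh.sect (K i) U) :
    (eK i U s).1 = val i s := rfl

/-- The module structure on the sections of `K i`. -/
@[implicit_reducible]
noncomputable def modK (U : X.Etale) : Module Γ(U.left, ⊤) (EtCoh.sect (K i) U) :=
  (eK i U).module Γ(U.left, ⊤)

theorem isPushout_alg {P A P' A' : CommRingCat.{u}} (φ : P ⟶ P') (a : P ⟶ A) (a' : P' ⟶ A')
    (b : A ⟶ A') (hp : IsPushout φ a a' b) :
    letI := φ.hom.toAlgebra; letI := a.hom.toAlgebra; letI := a'.hom.toAlgebra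
    letI := b.hom.toAlgebra; letI := (a'.hom.comp φ.hom).toAlgebra
    haveI : IsScalarTower P P' A' := IsScalarTower.of_algebraMap_eq' rfl
    haveI : IsScalarTower P A A' := IsScalarTower.of_algebraMap_eq' (congrArg (fun z => z.hom) hp.w)
    Algebra.IsPushout P P' A A' := by
  let := φ.hom.toAlgebra
  let := a.hom.toAlgebra
  let := a'.hom.toAlgebra
  let := b.hom.toAlgebra
  let := (a'.hom.comp φ.hom).toAlgebra
  have : IsScalarTower P P' A' := IsScalarTower.of_algebraMap_eq' rfl
  have : IsScalarTower P A A' := IsScalarTower.of_algebraMap_eq' (congrArg (fun z => z.hom) hp.w)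
  exact (CommRingCat.isPushout_iff_isPushout (R := P) (R' := P') (S := A) (S' := A')).1
    (by exact hp)

variable [IsClosedImmersion i]

theorem isBC_K {V U : X.Etale} (g : V ⟶ U) (hV : IsAffine V.left) (hU : IsAffine U.left) :
    letI := modK i U
    letI := modK i V
    Groth.Agent.Etbase.FFExact.IsBC g.left.appTop.hom ((K i).obj.map g.op).hom := by
  have hcU := isClosedImmersion_bcFst i U
  have hcV := isClosedImmersion_bcFst i V
  have hZU : IsAffine ((EtCoh.bc i).obj U).left := isAffine_of_isAffineHom (bcFst i U)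
  have hZV : IsAffine ((EtCoh.bc i).obj V).left := isAffine_of_isAffineHom (bcFst i V)
  have hV' : IsAffine ((𝟭 Scheme.{u}).obj V.left) := hV
  have hU' : IsAffine ((𝟭 Scheme.{u}).obj U.left) := hU
  have sq := EtCoh.isPullback_bc_map i g
  have hpo := isPushout_appTop_of_isPullback sq.flip
  have hfl : g.left.appTop.hom.Flat := by
    have : Etale g.left := inferInstance
    have : Flat g.left := inferInstance
    exact HasRingHomProperty.appTop @Flat g.left inferInstance
  refine KerBC.isBC_of_ker g.left.appTop.hom (bcFst i U).appTop.hom (bcFst i V).appTop.hom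
    ((EtCoh.bc i).map g).left.appTop.hom ?_ hfl ?_ (eK i U) (eK i V) _ ?_
  · exact congrArg (fun z => z.hom) hpo.w.symm
  · exact isPushout_alg _ _ _ _ hpo
  · intro x
    exact val_map i g x

/-- The quasi-coherence data of `K i`. -/
noncomputable def qcK : Groth.Agent.Etbase.EtQC.QC (K i).obj where
  mod W := modK i W
  isBC g hV hU := isBC_K i g hV hU

theorem etAcyc_K : Groth.Agent.Etbase.EtCartan.EtAcyc (K i).obj := (qcK i).etAcyc

end Groth.Agent.Etbc.H212.KQC
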