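import Groth.Agent.Etbase.FFExact
import Mathlib.RingTheory.Flat.Basic
import Mathlib.RingTheory.Flat.Stability
import Mathlib.RingTheory.Flat.IsBaseChange

/-!
# Kernels of ring homomorphisms and flat base change, in the `IsBC` form
-/

set_option autoImplicit false
universe u v

open TensorProduct

namespace Groth.Agent.Etbc.H212.KerBC

open Groth.Agent.Etbase.FFExact

/-- The kernel of `a : P → A` base changes to the kernel of `a' : P' → A'` when `P → P'` is flat
and the square is a pushout. -/
theorem isBC_of_ker {P A P' A' : Type u} [CommRing P] [CommRing A] [CommRing P'] [CommRing A']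
    (φ : P →+* P') (a : P →+* A) (a' : P' →+* A') (b : A →+* A') (comm : b.comp a = a'.comp φ)
    (hflat : φ.Flat)
    (hpo : letI := φ.toAlgebra; letI := a.toAlgebra; letI := a'.toAlgebra; letI := b.toAlgebra
      letI := (a'.comp φ).toAlgebra
      haveI : IsScalarTower P P' A' := IsScalarTower.of_algebraMap_eq' rfl
      haveI : IsScalarTower P A A' := IsScalarTower.of_algebraMap_eq' comm.symm
      Algebra.IsPushout P P' A A')
    {M M' : Type v} [AddCommGroup M] [AddCommGroup M'] (e : M ≃+ RingHom.ker a)
    (e' : M' ≃+ RingHom.ker a') (ψ : M →+ M') (hψ : ∀ x, ((e' (ψ x) : RingHom.ker a') : P') = φ (e x : P)) :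
    let := e.module P
    let := e'.module P'
    IsBC φ ψ := by
  let := e.module P
  let := e'.module P'
  letI := φ.toAlgebra; letI := a.toAlgebra; letI := a'.toAlgebra; letI := b.toAlgebra
  letI := (a'.comp φ).toAlgebra
  haveI : IsScalarTower P P' A' := IsScalarTower.of_algebraMap_eq' rfl
  haveI : IsScalarTower P A A' := IsScalarTower.of_algebraMap_eq' comm.symm
  haveI : Module.Flat P P' := hflat
  have hpo' : Algebra.IsPushout P P' A A' := hpo
  have he : ∀ (r : P) (m : M), e (r • m) = r • e m := fun r m => e.apply_symm_apply _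
  have he' : ∀ (r : P') (m : M'), e' (r • m) = r • e' m := fun r m => e'.apply_symm_apply _
  have hlin : ∀ (r : P) (m : M), ψ (r • m) = φ r • ψ m := by
    intro r m
    apply e'.injective
    rw [he']
    apply Subtype.ext
    rw [hψ, he]
    change φ (r * (e m : P)) = φ r * (e' (ψ m) : P')
    rw [map_mul, hψ]
  refine ⟨hlin, ?_⟩
  let : Module P M' := Module.compHom M' φ
  have : IsScalarTower P P' M' := ⟨fun a b m => by
      change (φ a * b) • m = φ a • b • m
      rw [mul_smul]⟩
  refine IsBaseChange.of_left_exact P' _ (Algebra.linearMap P P')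
    (IsScalarTower.toAlgHom P A A').toLinearMap
    (f := (RingHom.ker a).subtype.comp
      ({ e with map_smul' := he } : M ≃ₗ[P] RingHom.ker a).toLinearMap) (g := Algebra.linearMap P A)
    (f' := (RingHom.ker a').subtype.comp
      ({ e' with map_smul' := he' } : M' ≃ₗ[P'] RingHom.ker a').toLinearMap)
    (g' := Algebra.linearMap P' A')
    ?_ ?_ (IsBaseChange.linearMap P P') (Algebra.IsPushout.out) ?_ ?_ ?_ ?_
  · ext x
    exact (hψ x).symm
  · ext
    simp
  · intro x
    constructor
    · intro hx
      exact ⟨e.symm ⟨x, hx⟩, congrArg Subtype.val (e.apply_symm_apply ⟨x, hx⟩)⟩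
    · rintro ⟨y, rfl⟩
      exact (e y).2
  · exact Subtype.val_injective.comp e.injective
  · intro x
    constructor
    · intro hx
      exact ⟨e'.symm ⟨x, hx⟩, congrArg Subtype.val (e'.apply_symm_apply ⟨x, hx⟩)⟩
    · rintro ⟨y, rfl⟩
      exact (e' y).2
  · exact Subtype.val_injective.comp e'.injective

end Groth.Agent.Etbc.H212.KerBC
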